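import Groth.Agent.PurePairLib.Descent
import Groth.Prelude.Def_SGA2

/-!
Purity of a pair descends along faithfully flat quasi-compact morphisms.
-/

set_option autoImplicit false
set_option linter.style.haveILetI false
set_option backward.isDefEq.respectTransparency false

noncomputable section

universe u

open CategoryTheory CategoryTheory.Limits AlgebraicGeometry TopologicalSpace Opposite

namespace Groth.Agent.PurePair

open PunctFEtLib (Invisible)

theorem restrict_id_iso (X : Scheme.{u}) : Nonempty (FEt.restrict (𝟙 X) ≅ 𝟭 (FEt.Cat X)) := by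
  refine ⟨NatIso.ofComponents (fun A => MorphismProperty.Over.isoMk (asIso (pullback.fst A.hom (𝟙 X)))
    ((pullback.condition (f := A.hom) (g := 𝟙 X)).trans (Category.comp_id _))) fun {A B} k => ?_⟩
  refine MorphismProperty.Over.Hom.ext ?_
  exact pullback.lift_fst _ _ _

theorem restrict_iso_isEquivalence {X Y : Scheme.{u}} (e : X ≅ Y) : (FEt.restrict e.hom).IsEquivalence := by
  obtain ⟨i⟩ := restrict_id_iso X
  obtain ⟨i'⟩ := restrict_id_iso Y
  let c : FEt.restrict (𝟙 X) ≅ FEt.restrict e.inv ⋙ FEt.restrict e.hom :=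
    MorphismProperty.Over.pullbackComp e.hom e.inv (𝟙 X) e.hom_inv_id.symm
  let c' : FEt.restrict (𝟙 Y) ≅ FEt.restrict e.hom ⋙ FEt.restrict e.inv :=
    MorphismProperty.Over.pullbackComp e.inv e.hom (𝟙 Y) e.inv_hom_id.symm
  exact (CategoryTheory.Equivalence.mk (FEt.restrict e.hom) (FEt.restrict e.inv) (i'.symm ≪≫ c')
    (c.symm ≪≫ i)).isEquivalence_functor

theorem restrict_isEquivalence_of_iso {W W' V : Scheme.{u}} (i : W ⟶ V) (i' : W' ⟶ V) (e : W' ≅ W)
    (he : e.hom ≫ i = i') (h : (FEt.restrict i).IsEquivalence) : (FEt.restrict i').IsEquivalence := by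
  haveI := h
  haveI := restrict_iso_isEquivalence e
  let c : FEt.restrict i' ≅ FEt.restrict i ⋙ FEt.restrict e.hom :=
    MorphismProperty.Over.pullbackComp e.hom i i' he.symm
  exact Functor.isEquivalence_of_iso c.symm

/-- Restriction to an invisible open is an equivalence if it is so after a faithfully flat quasi-compact covering. -/
theorem restrict_isEquivalence {X X₁ : Scheme.{u}} [IsLocallyNoetherian X] {U : X.Opens} (hU : Invisible U)
    (f : X₁ ⟶ X) [Flat f] [Surjective f] [QuasiCompact f] (h : (FEt.restrict (f ⁻¹ᵁ U).ι).EssSurj) :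
    (FEt.restrict U.ι).IsEquivalence := by
  obtain ⟨hfull, hfaith⟩ := PunctFEtLib.restrict_full_faithful U fun Y => by
    haveI : Etale Y.hom := Y.prop.2
    exact invisible_preimage_flat hU Y.hom
  haveI := hfull
  haveI := hfaith
  haveI : (FEt.restrict U.ι).EssSurj := ⟨fun E => by
    let p := f ∣_ U
    haveI := h
    obtain ⟨F, ⟨ε⟩⟩ : ∃ F, Nonempty ((FEt.restrict (f ⁻¹ᵁ U).ι).obj F ≅ (FEt.restrict p).obj E) :=
      ⟨_, ⟨(FEt.restrict (f ⁻¹ᵁ U).ι).objObjPreimageIso _⟩⟩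
    haveI : IsFinite F.hom := F.prop.1
    haveI : Etale F.hom := F.prop.2
    let r := pullbackRestrictIsoRestrict F.hom (f ⁻¹ᵁ U)
    let εl : pullback F.hom (f ⁻¹ᵁ U).ι ≅ pullback E.hom p :=
      ⟨ε.hom.left, ε.inv.left, congrArg (fun z => z.left) ε.hom_inv_id, congrArg (fun z => z.left) ε.inv_hom_id⟩
    have hεw : εl.hom ≫ pullback.snd E.hom p = pullback.snd F.hom (f ⁻¹ᵁ U).ι := MorphismProperty.Over.w ε.hom
    let a := r.inv ≫ εl.hom ≫ pullback.fst E.hom p
    have sq : IsPullback a (F.hom ∣_ (f ⁻¹ᵁ U)) E.hom p := by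
      refine (IsPullback.of_hasPullback E.hom p).of_iso (εl.symm ≪≫ r) (Iso.refl _) (Iso.refl _) (Iso.refl _)
        ?_ ?_ (by simp) (by simp)
      · simp [a]
      · show pullback.snd E.hom p ≫ 𝟙 _ = (εl.inv ≫ r.hom) ≫ F.hom ∣_ (f ⁻¹ᵁ U)
        rw [Category.comp_id, Category.assoc, pullbackRestrictIsoRestrict_hom_morphismRestrict, ← hεw,
          Iso.inv_hom_id_assoc]
    obtain ⟨E', g, hgf, hge, b, hb, hbe⟩ := exists_descend f F.hom E.hom a hU sq
    haveI := hb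
    refine ⟨MorphismProperty.Over.mk _ g ⟨hgf, hge⟩, ⟨MorphismProperty.Over.isoMk
      (pullbackRestrictIsoRestrict g U ≪≫ asIso b) ?_⟩⟩
    show (((pullbackRestrictIsoRestrict g U).hom ≫ b)) ≫ E.hom = pullback.snd g U.ι
    rw [Category.assoc, hbe, pullbackRestrictIsoRestrict_hom_morphismRestrict]⟩
  exact { }

/-- Purity of a pair descends. -/
theorem isPurePair {X X₁ : Scheme.{u}} [IsLocallyNoetherian X] {U : X.Opens} (hU : Invisible U)
    (f : X₁ ⟶ X) [Flat f] [Surjective f] [QuasiCompact f] (h : SGA2.IsPurePair X₁ (f ⁻¹ᵁ U)) :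
    SGA2.IsPurePair X U := by
  intro V
  haveI : Flat (f ∣_ V) := MorphismProperty.of_isPullback (isPullback_morphismRestrict f V).flip ‹_›
  haveI : Surjective (f ∣_ V) := MorphismProperty.of_isPullback (isPullback_morphismRestrict f V).flip ‹_›
  haveI : QuasiCompact (f ∣_ V) := MorphismProperty.of_isPullback (isPullback_morphismRestrict f V).flip ‹_›
  -- restriction from an open subscheme
  have key : ∀ {Z : Scheme.{u}} (V U : Z.Opens), ∃ e : ((V ⊓ U : Z.Opens) : Scheme.{u}) ≅ ((V.ι ⁻¹ᵁ U : (V : Scheme.{u}).Opens) : Scheme.{u}),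
      e.hom ≫ (V.ι ⁻¹ᵁ U).ι = Z.homOfLE (inf_le_left : V ⊓ U ≤ V) := by
    intro Z V U
    refine ⟨IsOpenImmersion.isoOfRangeEq (Z.homOfLE (inf_le_left : V ⊓ U ≤ V)) (V.ι ⁻¹ᵁ U).ι ?_,
      IsOpenImmersion.isoOfRangeEq_hom_fac _ _ _⟩
    rw [Scheme.Opens.range_ι]
    ext z
    constructor
    · rintro ⟨w, rfl⟩
      show V.ι (Z.homOfLE (inf_le_left : V ⊓ U ≤ V) w) ∈ U
      rw [← Scheme.Hom.comp_apply, Scheme.homOfLE_ι]
      exact w.2.2
    · intro hz
      refine ⟨⟨V.ι z, z.2, hz⟩, V.ι.isOpenEmbedding.injective ?_⟩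
      rw [← Scheme.Hom.comp_apply, Scheme.homOfLE_ι]
      rfl
  have hpre : (f ∣_ V) ⁻¹ᵁ (V.ι ⁻¹ᵁ U) = (f ⁻¹ᵁ V).ι ⁻¹ᵁ (f ⁻¹ᵁ U) := by
    rw [← Scheme.Hom.comp_preimage, morphismRestrict_ι, Scheme.Hom.comp_preimage]
  have h₁ : (FEt.restrict ((f ∣_ V) ⁻¹ᵁ (V.ι ⁻¹ᵁ U)).ι).IsEquivalence := by
    rw [hpre]
    obtain ⟨e₁, he₁⟩ := key (f ⁻¹ᵁ V) (f ⁻¹ᵁ U)
    exact restrict_isEquivalence_of_iso _ _ e₁.symm (by rw [← he₁, Iso.symm_hom, Iso.inv_hom_id_assoc]) (h (f ⁻¹ᵁ V))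
  haveI := h₁
  obtain ⟨e, he⟩ := key V U
  exact restrict_isEquivalence_of_iso _ _ e he
    (restrict_isEquivalence (invisible_preimage_flat hU V.ι) (f ∣_ V) inferInstance)

end Groth.Agent.PurePair
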