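import Groth.Agent.PurePairLib.FlatInv
import Groth.Agent.PunctFEtLib.Extend
import Groth.Agent.DescLib.Main
import Groth.Agent.S0084
import Mathlib.AlgebraicGeometry.Morphisms.LocalFlatDescent

/-!
Descent of the extension of a finite étale cover along a faithfully flat quasi-compact morphism.
-/

set_option autoImplicit false
set_option linter.style.haveILetI false
set_option backward.isDefEq.respectTransparency false

noncomputable section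

universe u

open CategoryTheory CategoryTheory.Limits AlgebraicGeometry TopologicalSpace Opposite

namespace Groth.Agent.PurePair

open PunctFEtLib (Invisible)

variable {X X₁ : Scheme.{u}} [IsLocallyNoetherian X] {U : X.Opens} (f : X₁ ⟶ X)

variable {F : Scheme.{u}} (π : F ⟶ X₁) {E : Scheme.{u}} (e : E ⟶ (U : Scheme.{u}))
  (a : ((π ⁻¹ᵁ f ⁻¹ᵁ U : F.Opens) : Scheme.{u}) ⟶ E)

/-- Two points over the open have the same image in the cover of the open. -/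
def Same {Z : Scheme.{u}} (G G' : Z ⟶ F) : Prop :=
  ∀ (T : Scheme.{u}) (t : T ⟶ Z) (v w : T ⟶ ((π ⁻¹ᵁ f ⁻¹ᵁ U : F.Opens) : Scheme.{u})),
    v ≫ (π ⁻¹ᵁ f ⁻¹ᵁ U).ι = t ≫ G → w ≫ (π ⁻¹ᵁ f ⁻¹ᵁ U).ι = t ≫ G' → v ≫ a = w ≫ a

omit [IsLocallyNoetherian X] in
theorem exists_lift {T : Scheme.{u}} (g g' : T ⟶ F) (h : g ≫ π ≫ f = g' ≫ π ≫ f)
    (v : T ⟶ ((π ⁻¹ᵁ f ⁻¹ᵁ U : F.Opens) : Scheme.{u})) (hv : v ≫ (π ⁻¹ᵁ f ⁻¹ᵁ U).ι = g) :
    ∃ w : T ⟶ ((π ⁻¹ᵁ f ⁻¹ᵁ U : F.Opens) : Scheme.{u}), w ≫ (π ⁻¹ᵁ f ⁻¹ᵁ U).ι = g' := by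
  refine ⟨IsOpenImmersion.lift (π ⁻¹ᵁ f ⁻¹ᵁ U).ι g' ?_, IsOpenImmersion.lift_fac _ _ _⟩
  rintro _ ⟨t, rfl⟩
  rw [Scheme.Opens.range_ι]
  show (g' ≫ π ≫ f) t ∈ U
  rw [← h, ← hv, Category.assoc]
  exact (v t).2

theorem same_trans {Z : Scheme.{u}} {G G' G'' : Z ⟶ F} (h₁ : Same f π a G G') (h₂ : Same f π a G' G'')
    (hq : G ≫ π ≫ f = G' ≫ π ≫ f) : Same f π a G G'' := by
  intro T t v w hv hw
  obtain ⟨m, hm⟩ := exists_lift f π (t ≫ G) (t ≫ G') (by simp only [Category.assoc, hq]) v hv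
  exact (h₁ T t v m hv hm).trans (h₂ T t m w hm hw)

omit [IsLocallyNoetherian X] in
theorem Same.symm {Z : Scheme.{u}} {G G' : Z ⟶ F} (h : Same f π a G G') : Same f π a G' G :=
  fun T t v w hv hw => (h T t w v hw hv).symm

omit [IsLocallyNoetherian X] in
theorem Same.comp {Z Z' : Scheme.{u}} {G G' : Z ⟶ F} (h : Same f π a G G') (r : Z' ⟶ Z) :
    Same f π a (r ≫ G) (r ≫ G') :=
  fun T t v w hv hw => h T (t ≫ r) v w (by rw [hv, Category.assoc]) (by rw [hw, Category.assoc])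

variable [Flat f] [IsFinite π] [Etale π] (hU : Invisible U) (sq : IsPullback a (π ∣_ (f ⁻¹ᵁ U)) e (f ∣_ U))

include hU sq in
omit [Flat f] [Etale π] in
/-- Morphisms from a scheme flat over the base are determined over the open. -/
theorem hom_ext {Z : Scheme.{u}} (G G' : Z ⟶ F) [Flat (G ≫ π ≫ f)] (hw : G ≫ π = G' ≫ π) (h : Same f π a G G') :
    G = G' := by
  let q := G ≫ π ≫ f
  have hinv : Invisible (q ⁻¹ᵁ U) := invisible_preimage_flat hU q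
  have hle : q ⁻¹ᵁ U ≤ G ⁻¹ᵁ (π ⁻¹ᵁ f ⁻¹ᵁ U) := fun z hz => hz
  have hle' : q ⁻¹ᵁ U ≤ G' ⁻¹ᵁ (π ⁻¹ᵁ f ⁻¹ᵁ U) := fun z hz => by
    show (G' ≫ π ≫ f) z ∈ U
    rw [← Category.assoc, ← hw, Category.assoc]
    exact hz
  let v := G.resLE (π ⁻¹ᵁ f ⁻¹ᵁ U) (q ⁻¹ᵁ U) hle
  let w := G'.resLE (π ⁻¹ᵁ f ⁻¹ᵁ U) (q ⁻¹ᵁ U) hle'
  have hva : v ≫ a = w ≫ a :=
    h _ (q ⁻¹ᵁ U).ι v w (Scheme.Hom.resLE_comp_ι _ _) (Scheme.Hom.resLE_comp_ι _ _)
  have hvw : v = w := by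
    refine sq.hom_ext hva ?_
    rw [← cancel_mono (f ⁻¹ᵁ U).ι]
    simp only [v, w, Category.assoc, morphismRestrict_ι, Scheme.Hom.resLE_comp_ι_assoc, hw]
  haveI : IsIso (⊤ : Z.Opens).ι := by rw [← Scheme.topIso_hom]; infer_instance
  rw [← cancel_epi (⊤ : Z.Opens).ι]
  refine PunctFEtLib.ext_of_invisible hinv π (by simp only [Category.assoc, hw]) ?_
  have h1 : (q ⁻¹ᵁ U).ι ≫ G = (q ⁻¹ᵁ U).ι ≫ G' := by
    rw [← Scheme.Hom.resLE_comp_ι G hle, ← Scheme.Hom.resLE_comp_ι G' hle']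
    exact congrArg (· ≫ (π ⁻¹ᵁ f ⁻¹ᵁ U).ι) hvw
  rw [← Scheme.Hom.resLE_comp_ι_assoc (⊤ : Z.Opens).ι (le_rfl : _ ≤ (⊤ : Z.Opens).ι ⁻¹ᵁ (q ⁻¹ᵁ U)),
    ← Scheme.Hom.resLE_comp_ι_assoc (⊤ : Z.Opens).ι (le_rfl : _ ≤ (⊤ : Z.Opens).ι ⁻¹ᵁ (q ⁻¹ᵁ U)), h1]

include hU sq in
/-- The gluing morphism. -/
theorem exists_glue : ∃ σ : pullback (π ≫ f) f ⟶ F, σ ≫ π = pullback.snd (π ≫ f) f ∧
    Same f π a (pullback.fst (π ≫ f) f) σ := by
  let v₀ := pullback.fst (π ≫ f) f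
  let x₁ := pullback.snd (π ≫ f) f
  let q := v₀ ≫ π ≫ f
  haveI : Flat v₀ := MorphismProperty.pullback_fst _ _ inferInstance
  haveI : Flat q := inferInstance
  have hle : q ⁻¹ᵁ U ≤ v₀ ⁻¹ᵁ (π ⁻¹ᵁ f ⁻¹ᵁ U) := fun z hz => hz
  have hle₁ : q ⁻¹ᵁ U ≤ x₁ ⁻¹ᵁ (f ⁻¹ᵁ U) := fun z hz => by
    show (x₁ ≫ f) z ∈ U
    rw [← pullback.condition]
    exact hz
  let c : ((q ⁻¹ᵁ U : (pullback (π ≫ f) f).Opens) : Scheme.{u}) ⟶ ((π ⁻¹ᵁ f ⁻¹ᵁ U : F.Opens) : Scheme.{u}) :=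
    sq.lift (v₀.resLE _ _ hle ≫ a) (x₁.resLE _ _ hle₁) (by
      rw [Category.assoc, sq.w, ← cancel_mono U.ι]
      simp only [Category.assoc, morphismRestrict_ι, morphismRestrict_ι_assoc, Scheme.Hom.resLE_comp_ι_assoc]
      rw [← pullback.condition])
  have hc₁ : c ≫ a = v₀.resLE _ _ hle ≫ a := sq.lift_fst _ _ _
  have hc₂ : c ≫ π ∣_ (f ⁻¹ᵁ U) = x₁.resLE _ _ hle₁ := sq.lift_snd _ _ _
  obtain ⟨σ, hσ, hσπ⟩ := PunctFEtLib.exists_extend (invisible_preimage_flat hU q) π x₁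
    (c ≫ (π ⁻¹ᵁ f ⁻¹ᵁ U).ι) (by
      rw [Category.assoc, ← morphismRestrict_ι, ← Category.assoc, hc₂, Scheme.Hom.resLE_comp_ι])
  refine ⟨σ, hσπ, fun T t v w hv hw => ?_⟩
  let k : T ⟶ ((q ⁻¹ᵁ U : (pullback (π ≫ f) f).Opens) : Scheme.{u}) :=
    IsOpenImmersion.lift (q ⁻¹ᵁ U).ι t (by
      rintro _ ⟨s, rfl⟩
      rw [Scheme.Opens.range_ι]
      show (t ≫ v₀) s ∈ π ⁻¹ᵁ f ⁻¹ᵁ U
      rw [← hv]
      exact (v s).2)
  have hk : k ≫ (q ⁻¹ᵁ U).ι = t := IsOpenImmersion.lift_fac _ _ _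
  have e₁ : v = k ≫ v₀.resLE _ _ hle := by
    rw [← cancel_mono (π ⁻¹ᵁ f ⁻¹ᵁ U).ι, hv, Category.assoc, Scheme.Hom.resLE_comp_ι, reassoc_of% hk]
  have e₂ : w = k ≫ c := by
    rw [← cancel_mono (π ⁻¹ᵁ f ⁻¹ᵁ U).ι, hw, Category.assoc, ← hσ, reassoc_of% hk]
  rw [e₁, e₂, Category.assoc, Category.assoc, hc₁]

variable [Surjective f] [QuasiCompact f]

include hU sq in
/-- The extension descends. -/
theorem exists_descend :
    ∃ (E' : Scheme.{u}) (g : E' ⟶ X) (_ : IsFinite g) (_ : Etale g)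
      (b : ((g ⁻¹ᵁ U : E'.Opens) : Scheme.{u}) ⟶ E), IsIso b ∧ b ≫ e = g ∣_ U := by
  obtain ⟨σ, hσ, hsame⟩ := exists_glue f π e a hU sq
  haveI : IsAffineHom π := inferInstance
  let P := pullback (π ≫ f) f
  let sw : ∀ {T : Scheme.{u}} (v : T ⟶ F) (x₁ : T ⟶ X₁), v ≫ π ≫ f = x₁ ≫ f → (T ⟶ F) :=
    fun v x₁ h => pullback.lift v x₁ h ≫ σ
  have hswπ : ∀ {T : Scheme.{u}} (v : T ⟶ F) (x₁ : T ⟶ X₁) (h : v ≫ π ≫ f = x₁ ≫ f), sw v x₁ h ≫ π = x₁ :=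
    fun v x₁ h => by simp only [sw, Category.assoc, hσ, pullback.lift_snd]
  have hswq : ∀ {T : Scheme.{u}} (v : T ⟶ F) (x₁ : T ⟶ X₁) (h : v ≫ π ≫ f = x₁ ≫ f),
      sw v x₁ h ≫ π ≫ f = v ≫ π ≫ f := fun v x₁ h => by rw [← Category.assoc, hswπ, h]
  have hsws : ∀ {T : Scheme.{u}} (v : T ⟶ F) (x₁ : T ⟶ X₁) (h : v ≫ π ≫ f = x₁ ≫ f),
      Same f π a v (sw v x₁ h) := fun v x₁ h => by
    have := hsame.comp f π a (pullback.lift v x₁ h)
    rwa [pullback.lift_fst] at this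
  have hswn : ∀ {T T' : Scheme.{u}} (r : T' ⟶ T) (v : T ⟶ F) (x₁ : T ⟶ X₁) (h : v ≫ π ≫ f = x₁ ≫ f)
      (h' : (r ≫ v) ≫ π ≫ f = (r ≫ x₁) ≫ f), sw (r ≫ v) (r ≫ x₁) h' = r ≫ sw v x₁ h := by
    intro T T' r v x₁ h h'
    show pullback.lift _ _ h' ≫ σ = r ≫ pullback.lift v x₁ h ≫ σ
    rw [← Category.assoc r]
    congr 1
    apply pullback.hom_ext <;> simp
  -- the identity law, on the cover
  have hid₀ : sw (𝟙 F) π (by simp) = 𝟙 F := by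
    haveI : Flat (sw (𝟙 F) π (by simp) ≫ π ≫ f) := by rw [hswq, Category.id_comp]; infer_instance
    exact hom_ext f π e a hU sq _ _ (by rw [hswπ, Category.id_comp]) (hsws _ _ _).symm
  have hid : ∀ {T : Scheme.{u}} (v : T ⟶ F) (x : T ⟶ X₁) (hx : v ≫ π = x) (h : v ≫ π ≫ f = x ≫ f),
      sw v x h = v := by
    intro T v x hx h
    subst hx
    conv_rhs => rw [← Category.comp_id v, ← hid₀]
    rw [← hswn v (𝟙 F) π (by simp) (by simp)]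
    simp only [Category.comp_id]
  -- the cocycle law, on the universal triple
  let q₃ : pullback (π ≫ f) f ⟶ X := pullback.snd (π ≫ f) f ≫ f
  let w₀ : pullback q₃ f ⟶ F := pullback.fst q₃ f ≫ pullback.fst (π ≫ f) f
  let w₁ : pullback q₃ f ⟶ X₁ := pullback.fst q₃ f ≫ pullback.snd (π ≫ f) f
  let w₂ : pullback q₃ f ⟶ X₁ := pullback.snd q₃ f
  have h01 : w₀ ≫ π ≫ f = w₁ ≫ f := by simp only [w₀, w₁, Category.assoc, pullback.condition]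
  have h12 : sw w₀ w₁ h01 ≫ π ≫ f = w₂ ≫ f := by
    rw [hswq, h01, ← pullback.condition, Category.assoc]
  have h02 : w₀ ≫ π ≫ f = w₂ ≫ f := (hswq _ _ _).symm.trans h12
  have hcomp₀ : sw (sw w₀ w₁ h01) w₂ h12 = sw w₀ w₂ h02 := by
    haveI : Flat (pullback.fst q₃ f) := MorphismProperty.pullback_fst _ _ inferInstance
    haveI : Flat (pullback.fst (π ≫ f) f) := MorphismProperty.pullback_fst _ _ inferInstance
    haveI : Flat (sw (sw w₀ w₁ h01) w₂ h12 ≫ π ≫ f) := by rw [hswq, hswq]; infer_instance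
    refine hom_ext f π e a hU sq _ _ (by rw [hswπ, hswπ]) ?_
    refine same_trans f π a (hsws _ _ h12).symm ?_ (hswq _ _ h12)
    exact same_trans f π a (hsws _ _ h01).symm (hsws _ _ h02) (hswq _ _ h01)
  have hcomp : ∀ {T : Scheme.{u}} (v : T ⟶ F) (x₁ x₂ : T ⟶ X₁) (h₁ : v ≫ π ≫ f = x₁ ≫ f)
      (h₂ : sw v x₁ h₁ ≫ π ≫ f = x₂ ≫ f) (h₃ : v ≫ π ≫ f = x₂ ≫ f),
      sw (sw v x₁ h₁) x₂ h₂ = sw v x₂ h₃ := by
    intro T v x₁ x₂ h₁ h₂ h₃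
    obtain ⟨r, e₀, e₁, e₂⟩ : ∃ r : T ⟶ pullback q₃ f, r ≫ w₀ = v ∧ r ≫ w₁ = x₁ ∧ r ≫ w₂ = x₂ :=
      ⟨pullback.lift (pullback.lift v x₁ h₁) x₂ (by rw [pullback.lift_snd_assoc, ← h₁, h₃]),
        by simp only [w₀, pullback.lift_fst_assoc, pullback.lift_fst],
        by simp only [w₁, pullback.lift_fst_assoc, pullback.lift_snd],
        by simp only [w₂, pullback.lift_snd]⟩
    subst e₀ e₁ e₂
    have i₁ : sw (r ≫ w₀) (r ≫ w₁) h₁ = r ≫ sw w₀ w₁ h01 := hswn _ _ _ _ _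
    simp only [i₁, hswn r _ _ h12 _, hswn r _ _ h02 _, hcomp₀]
  let D : Desc.SchDD f :=
    { obj := Over.mk π
      φ := fun T x₀ x₁ h =>
        { toFun := fun v => ⟨sw v.1 x₁ (by rw [← Category.assoc, show v.1 ≫ π = x₀ from v.2, h]), hswπ _ _ _⟩
          invFun := fun v => ⟨sw v.1 x₀ (by rw [← Category.assoc, show v.1 ≫ π = x₁ from v.2, h]), hswπ _ _ _⟩
          left_inv := fun v => Subtype.ext ((hcomp _ _ _ _ _ (by
            rw [← Category.assoc, show v.1 ≫ π = x₀ from v.2])).trans (hid _ _ v.2 _))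
          right_inv := fun v => Subtype.ext ((hcomp _ _ _ _ _ (by
            rw [← Category.assoc, show v.1 ≫ π = x₁ from v.2])).trans (hid _ _ v.2 _)) }
      φ_natural := fun T T' r x₀ x₁ h h' v v' hv' => by
        obtain ⟨v', hv''⟩ := v'
        obtain rfl : v' = r ≫ v.1 := hv'
        exact hswn r v.1 x₁ _ _
      φ_self := fun T x v => Subtype.ext (hid _ _ v.2 _)
      φ_comp := fun T x₀ x₁ x₂ h₀₁ h₁₂ v => Subtype.ext (hcomp _ _ _ _ _ _) }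
  haveI : IsAffineHom D.obj.hom := inferInstanceAs (IsAffineHom π)
  obtain ⟨E', g, q', hq⟩ := DescLib.exists_isQuot_of_effective D (DescLib.effective_of_isAffineHom (p := f) D)
  have pb : IsPullback q' π g f := by simpa [D] using hq.isPullback
  have hfp : (@Surjective ⊓ @Flat ⊓ @QuasiCompact : MorphismProperty Scheme.{u}) f :=
    ⟨⟨inferInstance, inferInstance⟩, inferInstance⟩
  haveI : MorphismProperty.DescendsAlong @IsFinite (@Surjective ⊓ @Flat ⊓ @QuasiCompact : MorphismProperty Scheme.{u}) :=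
    Groth.Agent.S0084.result
  haveI hgf : IsFinite g :=
    MorphismProperty.of_isPullback_of_descendsAlong (P := @IsFinite) pb.flip hfp ‹IsFinite π›
  haveI hge : Etale g := MorphismProperty.of_isPullback_of_descendsAlong (P := @Etale) pb.flip hfp ‹Etale π›
  haveI : DescLib.Fpqc q' := DescLib.Fpqc.of_isPullback pb
  let j := (π ⁻¹ᵁ f ⁻¹ᵁ U).ι
  have hrange : ∀ y, q' y ∈ g ⁻¹ᵁ U ↔ y ∈ π ⁻¹ᵁ f ⁻¹ᵁ U := fun y => by
    show (q' ≫ g) y ∈ U ↔ _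
    rw [pb.w]
    rfl
  let q'' : ((π ⁻¹ᵁ f ⁻¹ᵁ U : F.Opens) : Scheme.{u}) ⟶ ((g ⁻¹ᵁ U : E'.Opens) : Scheme.{u}) :=
    q'.resLE (g ⁻¹ᵁ U) (π ⁻¹ᵁ f ⁻¹ᵁ U) (fun y hy => (hrange y).2 hy)
  have hq'' : q'' ≫ (g ⁻¹ᵁ U).ι = j ≫ q' := Scheme.Hom.resLE_comp_ι _ _
  have pq : IsPullback q'' j (g ⁻¹ᵁ U).ι q' := by
    refine IsOpenImmersion.isPullback q'' j (g ⁻¹ᵁ U).ι q' hq''.symm ?_
    ext y
    simp only [j, Scheme.Opens.opensRange_ι]
    exact hrange y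
  haveI : DescLib.Fpqc q'' := DescLib.Fpqc.of_isPullback pq
  let b := EffectiveEpi.desc q'' a fun {T} t₁ t₂ ht => by
    have h1 : (t₁ ≫ j) ≫ q' = (t₂ ≫ j) ≫ q' := by
      rw [Category.assoc, Category.assoc, ← hq'', reassoc_of% ht]
    obtain ⟨h, hr⟩ := hq.rel_of_eq h1
    simp only [Category.comp_id] at hr
    have h2 : sw (t₁ ≫ j) ((t₂ ≫ j) ≫ π) (by simpa [D] using h) = t₂ ≫ j := by simpa [D] using hr
    exact hsws (t₁ ≫ j) ((t₂ ≫ j) ≫ π) (by simpa [D] using h) T (𝟙 T) t₁ t₂ (Category.id_comp _).symm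
      (by rw [Category.id_comp, h2])
  have hb : q'' ≫ b = a := EffectiveEpi.fac _ _ _
  have hbe : b ≫ e = g ∣_ U := by
    rw [← cancel_epi q'', reassoc_of% hb, ← cancel_mono U.ι]
    rw [sq.w]
    simp only [Category.assoc, morphismRestrict_ι, morphismRestrict_ι_assoc, reassoc_of% hq'', j, pb.w]
  refine ⟨E', g, hgf, hge, b, ?_, hbe⟩
  have big : IsPullback q'' (π ∣_ (f ⁻¹ᵁ U)) (g ∣_ U) (f ∣_ U) := by
    refine IsPullback.of_bot ?_ ?_ (isPullback_morphismRestrict f U).flip.flip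
    · rw [morphismRestrict_ι, morphismRestrict_ι]
      exact pq.paste_vert pb
    · rw [← cancel_mono U.ι]
      simp only [Category.assoc, morphismRestrict_ι, morphismRestrict_ι_assoc, reassoc_of% hq'', j, pb.w]
  have small : IsPullback q'' (𝟙 _) b a := by
    refine IsPullback.of_bot ?_ (by rw [Category.id_comp, hb]) sq
    rw [Category.id_comp, hbe]
    exact big
  haveI : DescLib.Fpqc f := inferInstance
  haveI : DescLib.Fpqc (f ∣_ U) := DescLib.Fpqc.of_isPullback (isPullback_morphismRestrict f U)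
  haveI : DescLib.Fpqc a := DescLib.Fpqc.of_isPullback sq
  haveI : QuasiCompact a := MorphismProperty.of_isPullback (P := @QuasiCompact) sq.flip
    (MorphismProperty.of_isPullback (P := @QuasiCompact) (isPullback_morphismRestrict f U).flip ‹_›)
  exact MorphismProperty.of_isPullback_of_descendsAlong (P := MorphismProperty.isomorphisms Scheme.{u})
    (Q := (@Surjective ⊓ @Flat ⊓ @QuasiCompact : MorphismProperty Scheme.{u})) small.flip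
    ⟨⟨inferInstance, inferInstance⟩, inferInstance⟩ (inferInstanceAs (IsIso (𝟙 _)))

end Groth.Agent.PurePair
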