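import Groth.Agent.PunctFEtLib.Sections
import Mathlib.AlgebraicGeometry.Morphisms.Flat

/-!
An open invisible to sections of a locally Noetherian scheme stays so after a flat base change.
-/

set_option autoImplicit false
set_option linter.style.haveILetI false

noncomputable section

universe u

open CategoryTheory CategoryTheory.Limits AlgebraicGeometry TopologicalSpace Opposite

namespace Groth.Agent.PurePair

open PunctFEtLib (Invisible)

variable {X Z : Scheme.{u}} [IsLocallyNoetherian X] {U : X.Opens} (hU : Invisible U) (g : Z ⟶ X) [Flat g]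

include hU in
theorem bijective_of_affine {T : Z.Opens} (hT : IsAffineOpen T) {W : X.Opens} (hW : IsAffineOpen W)
    (hTW : T ≤ g ⁻¹ᵁ W) :
    Function.Bijective (Z.presheaf.map (homOfLE (inf_le_left : T ⊓ g ⁻¹ᵁ U ≤ T)).op) := by
  haveI : IsLocallyNoetherian (U : Scheme.{u}) := inferInstance
  let UX : (U : Scheme.{u}).Opens := U.ι ⁻¹ᵁ W
  let UY : ((g ⁻¹ᵁ U : Z.Opens) : Scheme.{u}).Opens := (g ⁻¹ᵁ U).ι ⁻¹ᵁ T
  have hUY : UY = (g ∣_ U) ⁻¹ᵁ UX ⊓ (g ⁻¹ᵁ U).ι ⁻¹ᵁ T := by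
    refine le_antisymm (le_inf (fun y hy => ?_) le_rfl) inf_le_right
    show U.ι ((g ∣_ U) y) ∈ W
    rw [← Scheme.Hom.comp_apply, morphismRestrict_ι, Scheme.Hom.comp_apply]
    exact hTW hy
  have hcpt : IsCompact (UX : Set (U : Scheme.{u})) := by
    have h1 : IsCompact ((W ⊓ U : X.Opens) : Set X) := by
      haveI : IsLocallyNoetherian (W : Scheme.{u}) := inferInstance
      haveI : IsAffine (W : Scheme.{u}) := hW
      haveI : IsNoetherian (W : Scheme.{u}) := { }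
      have := TopologicalSpace.NoetherianSpace.isCompact (α := (W : Scheme.{u})) ((W.ι ⁻¹ᵁ U : (W : Scheme.{u}).Opens) : Set _)
      convert this.image W.ι.continuous
      rw [← Scheme.Hom.coe_image, Scheme.Hom.image_preimage_eq_opensRange_inf, Scheme.Opens.opensRange_ι]
    refine U.ι.isOpenEmbedding.isEmbedding.isInducing.isCompact_iff.2 ?_
    convert h1
    rw [← Scheme.Hom.coe_image, Scheme.Hom.image_preimage_eq_opensRange_inf, Scheme.Opens.opensRange_ι, inf_comm]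
  have H := (isPullback_morphismRestrict g U)
  haveI hpo : IsIso (pushoutSection (US := W) (UT := T) (UX := UX) H hTW le_rfl hUY) :=
    isIso_pushoutSection_of_isQuasiSeparated_of_flat_right _ _ _ _ hW hT hcpt
      (isQuasiSeparated_univ.of_subset (Set.subset_univ _))
  have po := (isIso_pushoutSection_iff (US := W) (UT := T) (UX := UX) H hTW le_rfl hUY).1 hpo
  haveI : IsIso (U.ι.appLE W UX le_rfl) := by
    rw [Scheme.Opens.ι_appLE]
    refine (ConcreteCategory.isIso_iff_bijective _).2 (PunctFEtLib.map_bijective_of_eq hU ?_ _)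
    rw [Scheme.Hom.image_preimage_eq_opensRange_inf, Scheme.Opens.opensRange_ι, inf_comm]
  haveI h2 : IsIso ((g ⁻¹ᵁ U).ι.appLE T UY (by rw [hUY]; exact inf_le_right)) := po.isIso_inr_of_isIso
  rw [Scheme.Opens.ι_appLE] at h2
  have h3 := (ConcreteCategory.isIso_iff_bijective _).1 h2
  have key : ∀ (S : Z.Opens) (_ : S = T ⊓ g ⁻¹ᵁ U) (i : S ≤ T), Function.Bijective (Z.presheaf.map (homOfLE i).op) →
      Function.Bijective (Z.presheaf.map (homOfLE (inf_le_left : T ⊓ g ⁻¹ᵁ U ≤ T)).op) := by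
    rintro S rfl i h; exact h
  refine key _ ?_ _ h3
  rw [Scheme.Hom.image_preimage_eq_opensRange_inf, Scheme.Opens.opensRange_ι, inf_comm]

include hU in
theorem invisible_preimage_flat : Invisible (g ⁻¹ᵁ U) := by
  intro T
  set V := g ⁻¹ᵁ U
  let ι₀ : Z.Opens → Type u := fun T => {A : Z.affineOpens // A.1 ≤ T ∧ ∃ W : X.Opens, IsAffineOpen W ∧ A.1 ≤ g ⁻¹ᵁ W}
  have hcov : ∀ T : Z.Opens, T = ⨆ A : ι₀ T, A.1.1 := fun T => by
    refine le_antisymm (fun z hz => ?_) (iSup_le fun A => A.2.1)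
    obtain ⟨W, hW, hzW, -⟩ := exists_isAffineOpen_mem_and_subset (X := X) (x := g z) (U := ⊤) trivial
    obtain ⟨A, hA, hzA, hAT⟩ := exists_isAffineOpen_mem_and_subset (X := Z) (x := z) (U := T ⊓ g ⁻¹ᵁ W) ⟨hz, hzW⟩
    exact Opens.mem_iSup.2 ⟨⟨⟨A, hA⟩, fun a ha => (hAT ha).1, W, hW, fun a ha => (hAT ha).2⟩, hzA⟩
  have hb : ∀ {T : Z.Opens} (A : ι₀ T),
      Function.Bijective (Z.presheaf.map (homOfLE (inf_le_left : A.1.1 ⊓ V ≤ A.1.1)).op) := fun A => by
    obtain ⟨W, hW, hAW⟩ := A.2.2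
    exact bijective_of_affine hU g A.1.2 hW hAW
  have hcomp : ∀ {A B C : Z.Opens} (i : A ≤ B) (j : B ≤ C) (s : Γ(Z, C)),
      Z.presheaf.map (homOfLE i).op (Z.presheaf.map (homOfLE j).op s) = Z.presheaf.map (homOfLE (i.trans j)).op s := by
    intro A B C i j s
    rw [← ConcreteCategory.comp_apply, ← Functor.map_comp]
    rfl
  have hinj : ∀ T : Z.Opens, Function.Injective (Z.presheaf.map (homOfLE (inf_le_left : T ⊓ V ≤ T)).op) := by
    intro T s t hst
    refine TopCat.Sheaf.eq_of_locally_eq' Z.sheaf (fun A : ι₀ T => A.1.1) T (fun A => homOfLE A.2.1) (hcov T).le s t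
      fun A => (hb A).1 ?_
    have h := congrArg (Z.presheaf.map (homOfLE (inf_le_inf_right V A.2.1 : A.1.1 ⊓ V ≤ T ⊓ V)).op) hst
    rw [hcomp, hcomp] at h
    show Z.presheaf.map _ (Z.presheaf.map (homOfLE A.2.1).op s) = Z.presheaf.map _ (Z.presheaf.map (homOfLE A.2.1).op t)
    rw [hcomp, hcomp]
    exact h
  refine ⟨hinj T, fun s => ?_⟩
  choose e he using fun A : ι₀ T => (hb A).2 (Z.presheaf.map (homOfLE (inf_le_inf_right V A.2.1 : A.1.1 ⊓ V ≤ T ⊓ V)).op s)
  obtain ⟨t, ht, -⟩ := TopCat.Sheaf.existsUnique_gluing' Z.sheaf (fun A : ι₀ T => A.1.1) T (fun A => homOfLE A.2.1)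
    (hcov T).le e (fun A B => by
      refine hinj (A.1.1 ⊓ B.1.1) ?_
      show Z.presheaf.map _ (Z.presheaf.map (Opens.infLELeft A.1.1 B.1.1).op (e A)) =
        Z.presheaf.map _ (Z.presheaf.map (Opens.infLERight A.1.1 B.1.1).op (e B))
      rw [show Opens.infLELeft A.1.1 B.1.1 = homOfLE (inf_le_left : A.1.1 ⊓ B.1.1 ≤ A.1.1) from Subsingleton.elim _ _,
        show Opens.infLERight A.1.1 B.1.1 = homOfLE (inf_le_right : A.1.1 ⊓ B.1.1 ≤ B.1.1) from Subsingleton.elim _ _,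
        hcomp, hcomp]
      have eA := congrArg (Z.presheaf.map (homOfLE (inf_le_inf_right V inf_le_left : A.1.1 ⊓ B.1.1 ⊓ V ≤ A.1.1 ⊓ V)).op) (he A)
      have eB := congrArg (Z.presheaf.map (homOfLE (inf_le_inf_right V inf_le_right : A.1.1 ⊓ B.1.1 ⊓ V ≤ B.1.1 ⊓ V)).op) (he B)
      rw [hcomp, hcomp] at eA eB
      exact eA.trans eB.symm)
  refine ⟨t, TopCat.Sheaf.eq_of_locally_eq' Z.sheaf (fun A : ι₀ T => A.1.1 ⊓ V) (T ⊓ V)
    (fun A => homOfLE (inf_le_inf_right V A.2.1)) ?_ _ _ fun A => ?_⟩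
  · intro z hz
    obtain ⟨A, hA⟩ := Opens.mem_iSup.1 ((hcov T).le hz.1)
    exact Opens.mem_iSup.2 ⟨A, hA, hz.2⟩
  · show Z.presheaf.map _ (Z.presheaf.map _ t) = Z.presheaf.map _ s
    rw [hcomp]
    refine Eq.trans ?_ (he A)
    rw [← ht A]
    show _ = Z.presheaf.map _ (Z.presheaf.map (homOfLE A.2.1).op t)
    rw [hcomp]

end Groth.Agent.PurePair
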